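import Mathlib
import Cfsg.Agent.Lib.AltE6.Def
import Cfsg.Agent.Lib.H5.E8L2
import Cfsg.Agent.Lib.AltSec.Chev
import Cfsg.Agent.Lib.Chev.SteinCenter

/-!
The 27-dimensional module of the Steinberg group of type `E₆`.
-/

set_option autoImplicit false
set_option linter.unusedSectionVars false

namespace H5.AE

open H37 H38 Cfsg Cfsg.Lie Polynomial H5.E8T Module

universe u

/-- Restriction of a matrix representation to an invariant block. -/
def blk {G ι κ k : Type*} [Monoid G] [Field k] [Fintype ι] [DecidableEq ι] [Fintype κ] [DecidableEq κ]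
    (φ : G →* Matrix ι ι k) (e : κ → ι) (he : Function.Injective e)
    (h : ∀ g a j, j ∉ Set.range e → φ g (e a) j = 0) : G →* Matrix κ κ k where
  toFun g := (φ g).submatrix e e
  map_one' := by rw [map_one]; exact Matrix.submatrix_one e he
  map_mul' g g' := by
    ext a b
    simp only [map_mul, Matrix.submatrix_apply, Matrix.mul_apply]
    exact (Fintype.sum_of_injective e he _ _ (fun j hj => by rw [h g a j hj, zero_mul]) fun _ => rfl).symm

lemma t6 : chevE6 ∈ Tabs := by simp
lemma t7 : chevE7 ∈ Tabs := by simp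

/-- Cartan integers of `E₇`. -/
def T7 : ℕ := 0x808080808080818080808081807f808080817f80808080817f80818080817f80808180817f80808081807f80808080818080808180807f8080817f81807f80817f8081807f807f808081807f808081807f818080817f817f8180807f80817f81808081807f808180807f817f80818080807f8080818080808180807f8081817f81807f80817f8081807f808181807f817f80817f817f817f8081807f80817f80818180807f8081817f81807f808181807f817f80818180807f8080818181808080807f817f818080807f81807f8180807f8180807f81807f818080807f818081808080807f80828081808080807f817f818080807f7f80818080807f81807f8180807f7f817f8180807f807f808180807f8180807f81817f7f81807f81817f807f817f81817f80807f8081817f818080807f81807f8180807f8180807f81807f818080807f817f81808080807f80828081808080817f7f7f818080817f7f807f8180817f7f80807f81817f7f8080807f82807f818080817f7f807f8180817f7f80807f81817f7f8080807f827f7f808180817f8080807f81817f808080807f827f80808081817f808080807f827f80808080827f80808080807e818080808080817e81808080807f7f818080808080817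e81808080817f7f818080807f807f818080808080817e81818080817f7f818180817f807f8181807f80807f818180808080817e80818080817f7f818180817f807f8181817f80807f81817f8080807f818180808081807e808080817f817f8080817f80817f80817f8080817f807f808080817f80808081807f7f8180817f817f7f81817f80817f7f817f8080817f7f818081807f808081817f817f8080817f80817f80808181807f808080817f817f80808081807f80808080818080808081807e808080817f807f8080817f80817f80817f8080817f817f808080817f7f80808080817f80808180807f7f80817f81807f7f817f8081807f7f7f808081807f7f8081807f81807f817f817f81807f7f80817f81807f81807f8081807f7f817f8081807f807f808081807f808180807f8080817f81807f80807f8081807f808081807f817f80807f817f817f8080807f80817f80808180807f8081807f81807f808180807f817f80818080807f8080818081808080807f807f818080807f80807f8180807f8080807f81807f808080807f818080808080807f80818080808080807f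

lemma T7_ok : ctChk chevE7 T7 = true := by decide +kernel

lemma wt7 (s : Fin chevE7.nroots) (i : Fin chevE7.rank) : rsE7.toRS.wt s i = lam T7 (7 * s + i) := by
  rw [← rsE7.cartan_eq]; exact ctChk_spec T7_ok i s

/-- The roots of `E₇` with last coefficient one. -/
def ix (a : ℕ) : ℕ := byt 0x7d7c7b7a797876757472716f6c6b6966625c5b5956524d4844413f a

lemma ix_lt : ∀ a : Fin 27, ix a < chevE7.nroots := by decide +kernel

/-- The indices of the block. -/
def e27 (a : Fin 27) : chevE7.Idx := Sum.inr ⟨ix a, ix_lt a⟩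

lemma e27_inj : Function.Injective e27 := fun a b e => by
  have h : ∀ a b : Fin 27, ix a = ix b → a = b := by decide +kernel
  exact h a b (congrArg Fin.val (Sum.inr_injective e))

/-- The cocharacter defining the grading. -/
def vv (i : ℕ) : ℤ := [2, 3, 4, 6, 5, 4, 3].getD i 0

/-- The grading. -/
def gr (s : ℕ) : ℤ := sumLt 7 fun i => vv i * lam T7 (7 * s + i)

lemma gr_ix : ∀ a : Fin 27, gr (ix a) = 2 := by decide +kernel

lemma gr_rho : ∀ r : Fin chevE6.nroots, gr (rho67 r) = 0 := by decide +kernel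

lemma gr_all : ∀ s : Fin chevE7.nroots, gr s = 0 ∨ gr s = -2 ∨ ∃ a : Fin 27, ix a = s := by decide +kernel

lemma wt_ix : ∀ (a : Fin 27) (i : Fin 6), lam T7 (7 * ix a + i) = wt a i := by decide +kernel

variable (k : Type*) [Field k]

lemma chi_gr (μ : kˣ) (s : Fin chevE7.nroots) :
    ∏ i : Fin chevE7.rank, (μ ^ vv i) ^ rsE7.toRS.wt s i = μ ^ gr s := by
  simp only [← zpow_mul, wt7]
  rw [gr, sumLt_eq]
  exact (map_prod (zpowersHom kˣ μ) (fun i : Fin 7 => Multiplicative.ofAdd (vv i * lam T7 (7 * s + i))) _).symm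

/-- The homomorphism to the group of type `E₇`. -/
noncomputable def phi : chevE6.SteinbergGroup k →* chevE7.group k :=
  ((isMat t7 rsE7 k).grpRel.comap rsE6 emb67).lift rsE6 ((isMat t7 rsE7 k).grpRel.comap_R3 rsE6 emb67
    ((isMat t7 rsE7 k).grpRel_toPre ▸ (isMat t7 rsE7 k).grp_R3))

lemma phi_gen {r : ℕ} (hr : r < chevE6.nroots) (t : k) :
    phi k (chevE6.stGen k r t) = (EG t7 rsE7 k).x ⟨rho67 r, emb67.lt r hr⟩ t :=
  (StRel.lift_stGen _ _ _ hr t).trans ((isMat t7 rsE7 k).grpRel_x ⟨rho67 r, emb67.lt r hr⟩ t)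

lemma phi_tor (c : Fin chevE6.rank → kˣ) :
    phi k (Elts.tor (ES_R3 t6 rsE6 k) c) = Elts.tor (EG_R3 t7 rsE7 k) (extOne c) := by
  have hφ : PreElts.IsHom (ES t6 rsE6 k).toPreElts (((isMat t7 rsE7 k).grpRel.comap rsE6 emb67).toPre rsE6) (phi k) :=
    fun r t => StRel.lift_stGen _ _ _ r.2 t
  have hl : chevE6.rank ≤ chevE7.rank := by decide +kernel
  induction c using Pi.mulSingle_induction with
  | one => simp
  | mul c d h1 h2 => rw [map_mul, map_mul, map_mul, map_mul, h1, h2]
  | mulSingle i c =>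
    rw [Elts.tor_single, extOne_single hl, Elts.tor_single, hφ.h, StRel.comap_h _ rsE6 rsE7,
      (isMat t7 rsE7 k).grpRel_toPre]
    congr 1
    exact Fin.ext (by rw [rsE7.sim_eq]; exact (congrArg rho67 (rsE6.sim_eq i)).trans (rho67_simple i i.2))

/-- The matrices. -/
noncomputable def phm : chevE6.SteinbergGroup k →* Matrix chevE7.Idx chevE7.Idx k :=
  (Units.coeHom _).comp ((chevE7.group k).subtype.comp (phi k))

lemma coe_tor7 (c : Fin chevE7.rank → kˣ) :
    (((Elts.tor (EG_R3 t7 rsE7 k) c : chevE7.group k) : GL chevE7.Idx k) : Matrix chevE7.Idx chevE7.Idx k) =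
      Matrix.diagonal (Sum.elim (fun _ => 1) fun s => ((∏ i, c i ^ rsE7.toRS.wt s i : kˣ) : k)) := by
  rw [← (isMat t7 rsE7 k).coe_tor]
  exact congrArg _ (Elts.map_tor (isMat t7 rsE7 k).grp_isHom (EG_R3 t7 rsE7 k) _ c)

lemma phm_blk [Infinite k] (g : chevE6.SteinbergGroup k) (a : Fin 27) (j : chevE7.Idx) (hj : j ∉ Set.range e27) :
    phm k g (e27 a) j = 0 := by
  obtain ⟨μ, h0, h4⟩ : ∃ μ : k, μ ≠ 0 ∧ μ ^ 4 ≠ 1 := by
    classical
    obtain ⟨μ, h⟩ := Infinite.exists_notMem_finset (insert 0 (nthRoots 4 (1 : k)).toFinset)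
    simp only [Finset.mem_insert, Multiset.mem_toFinset, mem_nthRoots (show 0 < 4 by decide), not_or] at h
    exact ⟨μ, h⟩
  let m := Units.mk0 μ h0
  let d := Elts.tor (EG_R3 t7 rsE7 k) fun i => m ^ vv i
  have h1 : (MulAut.conj d).toMonoidHom.comp (phi k) = phi k := st_hom_ext fun r hr t => by
    rw [MonoidHom.comp_apply, phi_gen k hr, MulEquiv.coe_toMonoidHom, MulAut.conj_apply, Elts.tor_conj_x, chi_gr,
      gr_rho ⟨r, hr⟩, zpow_zero, Units.val_one, one_mul]
  have h2 : d * phi k g = phi k g * d := mul_inv_eq_iff_eq_mul.1 (DFunLike.congr_fun h1 g)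
  have h3 := congrFun (congrFun (congrArg (fun x : chevE7.group k =>
    ((x : GL chevE7.Idx k) : Matrix chevE7.Idx chevE7.Idx k)) h2) (e27 a)) j
  simp only [Subgroup.coe_mul, Units.val_mul, d, coe_tor7, Matrix.diagonal_mul, Matrix.mul_diagonal, chi_gr, e27,
    Sum.elim_inr, gr_ix] at h3
  by_contra h5
  rw [mul_comm] at h3
  have h6 := mul_left_cancel₀ h5 h3
  have h7 : m ^ (2 : ℤ) = 1 ∨ m ^ (2 : ℤ) = m ^ (-2 : ℤ) := by
    rcases j with j | j
    · exact Or.inl (Units.ext h6)
    · rcases gr_all j with h | h | ⟨b, h⟩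
      · exact Or.inl (Units.ext (by simpa [h] using h6))
      · exact Or.inr (Units.ext (by simpa [h] using h6))
      · exact absurd ⟨b, congrArg Sum.inr (Fin.ext h)⟩ hj
  refine h4 (congrArg Units.val (show m ^ 4 = 1 from ?_))
  rw [← zpow_natCast, show ((4 : ℕ) : ℤ) = 2 + 2 from rfl, zpow_add]
  rcases h7 with h | h
  · rw [h, one_mul]
  · nth_rw 1 [h]; rw [← zpow_add, neg_add_cancel, zpow_zero]

/-- The representation of degree 27. -/
noncomputable def rho [Infinite k] : chevE6.SteinbergGroup k →* Matrix (Fin 27) (Fin 27) k :=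
  blk (phm k) e27 e27_inj (phm_blk k)

lemma rho_apply [Infinite k] (g : chevE6.SteinbergGroup k) : rho k g =
    (((phi k g : chevE7.group k) : GL chevE7.Idx k) : Matrix chevE7.Idx chevE7.Idx k).submatrix e27 e27 := rfl

lemma rho_tor [Infinite k] (c : Fin chevE6.rank → kˣ) : (rho k (Elts.tor (ES_R3 t6 rsE6 k) c)).charpoly = cpT c := by
  have : rho k (Elts.tor (ES_R3 t6 rsE6 k) c) = Matrix.diagonal fun a => ((∏ j : Fin 6, c j ^ wt a j : kˣ) : k) := by
    refine (rho_apply k _).trans ?_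
    rw [phi_tor, coe_tor7, Matrix.submatrix_diagonal _ _ e27_inj]
    congr 1
    funext a
    simp only [Function.comp_apply, e27, Sum.elim_inr, wt7]
    congr 1
    refine (Fin.prod_univ_castSucc (n := 6) _).trans ?_
    refine (mul_eq_left.2 (one_zpow _)).trans ?_
    exact Finset.prod_congr rfl fun j _ => by rw [← wt_ix]; exact congrArg (· ^ _) (dif_pos j.2)
  rw [this, Matrix.charpoly_diagonal]; rfl

lemma tor6_inj : Function.Injective (Elts.tor (ES_R3 t6 rsE6 k)) := tor_st_injective_E6 (isMat t6 rsE6 k)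

variable {k}

lemma sm_inj {K : Type*} [Field K] (f : K →+* k) : Function.Injective (sm rsE6 f) :=
  (injective_iff_map_eq_one _).2 fun g hg => by
    have h1 := th_sm t6 rsE6 f g
    rw [hg, map_one, eq_comm, map_eq_one_iff _ (fm_injective t6 f), ← map_one (th t6 rsE6 K)] at h1
    obtain ⟨z, hz, -, e⟩ := exists_central t6 rsE6 h1
    obtain ⟨c, rfl⟩ := exists_tor (ES_R3 t6 rsE6 K) hz
    rw [e, one_mul, (sm_fhom t6 rsE6 f).tor _ (ES_R3 t6 rsE6 k), map_eq_one_iff _ (tor6_inj k)] at hg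
    rw [e, one_mul, show c = 1 from funext fun i => Units.ext (f.injective (by
      simpa using congrArg Units.val (congrFun hg i))), map_one]

theorem rho_eig {p : ℕ} [Fact p.Prime] {k : Type u} [Field k] [IsAlgClosed k] [CharP k p] (hk : LocFin k p) {r : ℕ}
    (hr : r.Prime) (hrp : r ≠ p) {t : chevE6.SteinbergGroup k} (ht : t ^ r = 1) (h1 : t ≠ 1) :
    ∃ c : Fin 6 → kˣ, c ≠ 1 ∧ c ^ r = 1 ∧ (rho k t).charpoly = cpT c := by
  obtain ⟨g, -, hg⟩ := exists_conj_H_primePow (hD := t6) (R := rsE6) hk isSub_univ hr hrp (a := 1)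
    (t := th t6 rsE6 k t) (EG_BS_univ t6 rsE6 k ▸ trivial) (by rw [pow_one, ← map_pow, ht, map_one])
  obtain ⟨c, hc⟩ := exists_tor (EG_R3 t6 rsE6 k) hg
  obtain ⟨g, rfl⟩ := (isMat t6 rsE6 k).θ_surjective g
  obtain ⟨z, hz, -, e⟩ := exists_central t6 rsE6 (a := g⁻¹ * t * g) (b := Elts.tor (ES_R3 t6 rsE6 k) c) (by
    rw [th_tor, hc, map_mul, map_mul, map_inv]; rfl)
  obtain ⟨c', hc'⟩ := exists_tor (ES_R3 t6 rsE6 k) (mul_mem (tor_mem (ES_R3 t6 rsE6 k) c) hz)
  rw [← e] at hc'
  refine ⟨c', fun h => h1 ?_, tor6_inj k ?_, ?_⟩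
  · rw [h] at hc'
    rw [show t = g * (g⁻¹ * t * g) * g⁻¹ by group, ← hc']
    exact mul_inv_eq_one.2 (mul_eq_left.2 (map_one _))
  · refine (map_pow _ c' r).trans (Eq.trans ?_ (map_one _).symm)
    rw [hc', show g⁻¹ * t * g = g⁻¹ * t * g⁻¹⁻¹ by rw [inv_inv], conj_pow, ht]; group
  · rw [← rho_tor, hc', map_mul, map_mul, Matrix.charpoly_mul_comm, ← mul_assoc, ← map_mul, mul_inv_cancel, map_one,
      one_mul]

/-- An element of order nine of the Weyl group. -/
noncomputable def w9 : rsE6.toRS.W :=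
  (([0, 1, 2, 3, 1, 4, 3, 5] : List (Fin 6)).map fun i => ⟨rsE6.toRS.s i, rsE6.toRS.s_mem_W i⟩).prod

/-- Its table. -/
def f9 (s : ℕ) : ℕ := byt 0x37364635472d0f342c45332b4432432a290e312842300a260d2527412f4009240c193c083f0b2e3b233e07180620223a213d17051f16391e1d0415031c14021b13381a0012011110 s

lemma f9_ok : allLt 72 (fun s => ([0, 1, 2, 3, 1, 4, 3, 5] : List ℕ).foldr chevE6.reflectRoot s == f9 s &&
    f9^[9] s == s) = true := by decide +kernel

lemma w9_apply (s : Fin chevE6.nroots) : ((w9 : Equiv.Perm (Fin chevE6.nroots)) s : ℕ) = f9 s := by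
  have h := (allLt_iff _ _).1 f9_ok s s.2
  rw [Bool.and_eq_true, beq_iff_eq] at h
  rw [← h.1]
  have e : ∀ (i : Fin 6) s, (rsE6.toRS.s i s : ℕ) = chevE6.reflectRoot i s := fun i s =>
    (congrArg Fin.val (rsE6.toRS.s_apply i s)).trans (rsE6.σ_eq i s)
  simp only [w9, List.map_cons, List.map_nil, List.prod_cons, List.prod_nil, Subgroup.coe_mul, Equiv.Perm.mul_apply,
    List.foldr_cons, List.foldr_nil, mul_one, e]
  rfl

lemma w9_pow (n : ℕ) (s : Fin chevE6.nroots) : (((w9 ^ n : rsE6.toRS.W) : Equiv.Perm (Fin chevE6.nroots)) s : ℕ) =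
    f9^[n] s := by
  induction n with
  | zero => rfl
  | succ n ih => rw [pow_succ', Subgroup.coe_mul, Equiv.Perm.mul_apply, w9_apply, ih, Function.iterate_succ_apply']

lemma card_W_le {l : ℕ} (hl : l.Prime) (h2 : l ≠ 2) (Q : Subgroup rsE6.toRS.W) (hQ : ∀ a ∈ Q, a ^ l = 1) :
    Nat.card Q ≤ l ^ 3 := by
  have := Fact.mk hl
  have hW := H39.cardWE6 rsE6
  have : Finite rsE6.toRS.W := Nat.finite_of_card_ne_zero (by omega)
  obtain ⟨m, hm⟩ := IsPGroup.exists_card_eq (p := l) (G := Q) fun a => ⟨1, Subtype.ext (by simpa using hQ a a.2)⟩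
  rw [hm]
  by_contra hlt
  have h4 : 4 ≤ m := by
    by_contra h
    exact hlt (Nat.pow_le_pow_right hl.pos (by omega))
  have hd : l ^ m ∣ 51840 := hm ▸ hW ▸ Subgroup.card_subgroup_dvd_card Q
  have h5 := (pow_dvd_pow l h4).trans hd
  have h6 : l ≤ 15 := by
    by_contra h
    have := (Nat.pow_le_pow_left (show 16 ≤ l by omega) 4).trans (Nat.le_of_dvd (by decide) h5)
    omega
  obtain rfl : l = 3 := by
    have := hl.two_le
    interval_cases l <;> first | rfl | omega | exact absurd hl (by decide)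
  obtain rfl : m = 4 := by
    by_contra h
    exact absurd ((pow_dvd_pow 3 (show 5 ≤ m by omega)).trans hd) (by decide)
  let P : Sylow 3 rsE6.toRS.W := Sylow.ofCard Q (by rw [hm, hW]; congr 1; decide +kernel)
  have h9 : w9 ^ 9 = 1 := Subtype.ext (Equiv.ext fun s => Fin.ext (by
    have h := (allLt_iff _ _).1 f9_ok s s.2
    rw [Bool.and_eq_true, beq_iff_eq, beq_iff_eq] at h
    rw [w9_pow, h.2]; rfl))
  obtain ⟨P', hP'⟩ := IsPGroup.exists_le_sylow (p := 3) (P := Subgroup.zpowers w9) (by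
    rintro ⟨_, n, rfl⟩
    exact ⟨2, Subtype.ext (by
      change (w9 ^ n) ^ 9 = 1
      rw [← zpow_natCast, ← zpow_mul, mul_comm, zpow_mul, zpow_natCast, h9, one_zpow])⟩)
  obtain ⟨c, hc⟩ := MulAction.exists_smul_eq rsE6.toRS.W P' P
  have h7 : c * w9 * c⁻¹ ∈ Q := by
    change c * w9 * c⁻¹ ∈ (P : Subgroup rsE6.toRS.W)
    rw [← hc, Sylow.coe_subgroup_smul]
    exact Subgroup.smul_mem_pointwise_smul w9 (MulAut.conj c) _ (hP' (Subgroup.mem_zpowers w9))
  have h8 := hQ _ h7
  rw [conj_pow, mul_inv_eq_one, mul_eq_left] at h8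
  have := w9_pow 3 ⟨0, by decide +kernel⟩
  rw [h8] at this
  exact absurd this (by decide +kernel)

lemma fin_st (K : Type*) [Field K] [Finite K] : Finite (chevE6.SteinbergGroup K) := by
  have h := (isMat t6 rsE6 K).card_center_st t6 (tor6_inj K) smithE6
  have : Finite (th t6 rsE6 K).ker := by
    rw [th, (isMat t6 rsE6 K).θ_ker t6]
    exact Nat.finite_of_card_ne_zero (by rw [h]; exact pow_ne_zero _ (Nat.gcd_ne_zero_left (by decide)))
  exact (MonoidHom.finite_iff_finite_ker_range _).2 ⟨this, inferInstance⟩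

theorem rank_le {F : Type*} [Field F] [Finite F] {p : ℕ} [Fact p.Prime] [CharP F p] {l : ℕ} (hl : l.Prime) (hlp : l ≠ p)
    (h2 : l ≠ 2) (E : Subgroup (chevE6.SteinbergGroup F)) (hE : ∀ a ∈ E, a ^ l = 1) : Nat.card E ≤ l ^ 9 := by
  have := Fact.mk hl
  obtain ⟨K, _, _, f, hK⟩ := exists_ext F p (M := l ^ 5) (((Nat.coprime_primes hl Fact.out).2 hlp).pow_left 5)
    (pow_ne_zero _ hl.ne_zero)
  have := fin_st K
  have hF := ES_faith t6 rsE6 K
  have hT := fus_top hF (ES_R3 t6 rsE6 K) (ES_top t6 rsE6 K)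
  have hi := relIndex_H_modEq hF (ES_top t6 rsE6 K) hK
  have hW := H39.cardWE6 rsE6
  have h1 : ¬ l ∣ ((ES t6 rsE6 K).N ⊓ ⊤).relIndex ⊤ := fun ⟨m, hm⟩ => by
    rw [← Subgroup.relIndex_mul_relIndex _ ((ES t6 rsE6 K).N ⊓ ⊤) ⊤ (inf_le_inf_right _ (ES t6 rsE6 K).H_le_N)
      inf_le_right, hT.relIndex_N, hW, hm] at hi
    have h3 : ∀ n ≤ 5, l ^ n ∣ 51840 := fun n => by
      induction n with
      | zero => simp
      | succ n ih =>
        intro hn
        refine ((hi.of_dvd (pow_dvd_pow l hn)).dvd_iff dvd_rfl).1 ?_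
        rw [pow_succ, ← mul_assoc]
        exact (mul_dvd_mul_right (ih (by omega)) l).mul_right m
    have h4 := h3 5 le_rfl
    have h6 : l ≤ 9 := by
      by_contra h
      have := (Nat.pow_le_pow_left (show 10 ≤ l by omega) 5).trans (Nat.le_of_dvd (by decide) h4)
      omega
    have := hl.two_le
    interval_cases l <;> omega
  have hP : IsPGroup l E := fun a => ⟨1, Subtype.ext (by simpa using hE a a.2)⟩
  obtain ⟨c, -, h⟩ := exists_conj_into (A := (ES t6 rsE6 K).N ⊓ ⊤) inf_le_right le_rfl h1 (hP.map (sm rsE6 f)) le_top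
  let j := ((MulAut.conj c).toMonoidHom.comp (sm rsE6 f)).comp E.subtype
  have i1 : Function.Injective j := ((MulAut.conj c).injective.comp (sm_inj f)).comp E.subtype_injective
  have hj : ∀ a, j a ^ l = 1 := fun a => by rw [← map_pow, show a ^ l = 1 from Subtype.ext (hE a a.2), map_one]
  let π : E →* rsE6.toRS.W := hF.toW.comp (j.codRestrict _ fun u => (h _ ⟨u, u.2, rfl⟩).1)
  have h3 : Nat.card π.range ≤ l ^ 3 := card_W_le hl h2 _ (by
    rintro _ ⟨a, rfl⟩
    rw [← map_pow, show a ^ l = 1 from Subtype.ext (hE a a.2), map_one])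
  have h4 : Nat.card π.ker ≤ l ^ 6 := by
    have h5 : ∀ a : π.ker, ∃ x, Elts.tor (ES_R3 t6 rsE6 K) x = j a := fun a => exists_tor _ (by
      have := hF.toW_ker.le (MonoidHom.mem_ker.2 (MonoidHom.mem_ker.1 a.2))
      exact this)
    choose x hx using h5
    have h6 : ∀ a i, x a i ∈ rootsOfUnity l K := fun a i => congrFun (tor6_inj K (by
      rw [map_pow, hx, hj, map_one]) : x a ^ l = 1) i
    have := NeZero.of_pos hl.pos
    refine (Nat.card_le_card_of_injective (β := Fin chevE6.rank → rootsOfUnity l K) (fun a i => ⟨x a i, h6 a i⟩)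
      fun a b e => Subtype.ext (i1 ?_)).trans ?_
    · rw [← hx, ← hx, show x a = x b from funext fun i => congrArg Subtype.val (congrFun e i)]
    · rw [Nat.card_fun, Nat.card_fin]
      exact Nat.pow_le_pow_left (card_rootsOfUnity K l) 6
  rw [← π.ker.card_mul_index, Subgroup.index_ker, show 9 = 6 + 3 from rfl, pow_add]
  exact Nat.mul_le_mul h4 h3

theorem exists_r27 {F : Type u} [Field F] [Finite F] (p : ℕ) [Fact p.Prime] [CharP F p] {n : ℕ}
    (h : AltSec (chevE6.group F) n) : ∃ (H : Type u) (_ : Group H) (_ : Finite H)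
      (ρ : H →* End (AlgebraicClosure (ZMod p)) (Fin 27 → AlgebraicClosure (ZMod p))) (π : H →* Equiv.Perm (Fin n)),
      R27 p ρ ∧ (∀ h, Equiv.Perm.sign (π h) = 1) ∧ ∀ σ, Equiv.Perm.sign σ = 1 → ∃ h, π h = σ := by
  obtain ⟨Y, φ, hφ⟩ := h
  let k := AlgebraicClosure (ZMod p)
  let := ZMod.algebra F p
  let f : F →+* k := (IsAlgClosed.lift (R := ZMod p) (S := F) (M := k)).toRingHom
  have := fin_st F
  let H := Y.comap (th t6 rsE6 F)
  let j : H →* chevE6.SteinbergGroup k := (sm rsE6 f).comp H.subtype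
  have hj : Function.Injective j := (sm_inj f).comp H.subtype_injective
  refine ⟨H, inferInstance, inferInstance,
    (Matrix.toLinAlgEquiv' (R := k) (n := Fin 27)).toRingEquiv.toMonoidHom.comp ((rho k).comp j),
    φ.comp ((th t6 rsE6 F).subgroupComap Y), ⟨by simp, fun r hr hrp t ht h1 => ?_, fun l hl hlp h2 E _ hE => ?_⟩,
    fun h => Equiv.Perm.mem_alternatingGroup.1 (hφ.le ⟨_, rfl⟩), fun σ hσ => ?_⟩
  · obtain ⟨c, a1, a2, a3⟩ := rho_eig (locFin_of_algebraic (ZMod p) k) hr hrp (t := j t)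
      (by rw [← map_pow, ht, map_one]) fun e => h1 (hj (e.trans (map_one j).symm))
    exact ⟨c, a1, a2, (Matrix.charpoly_toLin' _).trans a3⟩
  · rw [← Subgroup.card_map_of_injective H.subtype_injective]
    refine rank_le hl hlp h2 _ ?_
    rintro _ ⟨a, ha, rfl⟩
    rw [← map_pow, hE a ha, map_one]
  · obtain ⟨y, rfl⟩ := hφ.ge (Equiv.Perm.mem_alternatingGroup.2 hσ)
    obtain ⟨x, hx⟩ := (isMat t6 rsE6 F).θ_surjective y
    exact ⟨⟨x, show th t6 rsE6 F x ∈ Y from hx ▸ y.2⟩, congrArg φ (Subtype.ext hx)⟩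

end H5.AE
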